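import Groth.Agent.L06.BddFibDeg
import Groth.Prelude.Def_AlgSpMor5
import Groth.Agent.L20.Weight.Sep
import Groth.Agent.L20.Weight.Isolate
import Mathlib.AlgebraicGeometry.ZariskisMainTheorem

/-!
# The degree of the fibres of flat quasi-finite separated morphisms
-/

universe u

open CategoryTheory CategoryTheory.Limits AlgebraicGeometry TopologicalSpace

set_option autoImplicit false
set_option linter.style.haveILetI false
set_option backward.isDefEq.respectTransparency.types false

namespace Groth.L09.UnivBdd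

open Groth.L00.BddFib (pt flat_toField)

variable {X Y : Scheme.{u}} (f : X ⟶ Y)

/-- The degree of the fibre of `f` over a point (for finite fibres). -/
noncomputable def fdeg (y : Y) : ℕ := (f.fiberToSpecResidueField y).finrank (pt (Y.residueField y))

variable {f}

theorem isFinite_fiber {n : ℕ} (hf : BddFib.FibreDegLE f n) (y : Y) :
    IsFinite (pullback.snd f (Y.fromSpecResidueField y)) :=
  ((Groth.L00.BddFib.iff (k := Y.residueField y) (f.fiberToSpecResidueField y) n).1 (hf y)).1

theorem flat_fiber (y : Y) : Flat (pullback.snd f (Y.fromSpecResidueField y)) :=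
  flat_toField (k := Y.residueField y) (f.fiberToSpecResidueField y)

theorem finiteOfDegLE_iff {n m : ℕ} {y : Y} (hf : BddFib.FibreDegLE f n) :
    BddFib.FiniteOfDegLE (Y.residueField y) (f.fiberToSpecResidueField y) m ↔ fdeg f y ≤ m := by
  have hp := isFinite_fiber hf y
  refine Iff.trans (Groth.L00.BddFib.iff (k := Y.residueField y) (f.fiberToSpecResidueField y) m) ?_
  exact ⟨fun ⟨_, h⟩ => h, fun h => ⟨hp, h⟩⟩

/-- The degree can be computed at any field-valued point. -/
theorem finrank_snd_eq {n : ℕ} (hf : BddFib.FibreDegLE f n) {k : Type u} [Field k]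
    (g : Spec (CommRingCat.of k) ⟶ Y) :
    (pullback.snd f g).finrank (pt k) = fdeg f (g (pt k)) := by
  obtain ⟨q, hq⟩ := Groth.L00.BddFib.exists_eq_comp g
  haveI := isFinite_fiber hf (g (pt k))
  haveI := flat_fiber (f := f) (g (pt k))
  have sq : IsPullback (pullback.map f g f (Y.fromSpecResidueField (g (pt k))) (𝟙 X) q (𝟙 Y) (by simp)
      (by simp [← hq])) (pullback.snd f g) (pullback.snd f (Y.fromSpecResidueField (g (pt k)))) q := by
    refine IsPullback.of_right ?_ (pullback.lift_snd _ _ _) (IsPullback.of_hasPullback f _)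
    rw [pullback.lift_fst, Category.comp_id, ← hq]
    exact IsPullback.of_hasPullback f g
  rw [Scheme.Hom.finrank_of_isPullback _ _ _ _ sq, fdeg]
  congr 1
  exact Subsingleton.elim (α := PrimeSpectrum (Y.residueField (g (pt k)))) _ _

theorem fdeg_of_isPullback {n : ℕ} (hf : BddFib.FibreDegLE f n) {P V : Scheme.{u}} {g : V ⟶ Y}
    {f' : P ⟶ V} {g' : P ⟶ X} (sq : IsPullback g' f' f g) (v : V) : fdeg f' v = fdeg f (g v) := by
  have hf' := Groth.L00.BddFib.baseChange sq n hf
  let x := V.fromSpecResidueField v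
  obtain ⟨hp, -⟩ := (Groth.L00.BddFib.iff (k := V.residueField v) (pullback.snd f' x) n).1
    ((Groth.L00.BddFib.forall_field_iff f' n).1 hf' _ x)
  haveI := hp
  haveI := flat_toField (k := V.residueField v) (pullback.snd f' x)
  have sq' := Groth.L00.BddFib.isPullback_of_isPullback sq x
  have e := sq'.isoPullback_inv_snd
  have h1 := finrank_snd_eq hf (k := V.residueField v) (x ≫ g)
  rw [← e, Scheme.Hom.finrank_comp_left_of_isIso] at h1
  have hx : (x ≫ g) (pt (V.residueField v)) = g v := by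
    rw [Scheme.Hom.comp_apply, Scheme.fromSpecResidueField_apply]
  exact h1.trans (congrArg (fdeg f) hx)

theorem fdeg_eq_finrank [IsFinite f] [Flat f] (y : Y) : fdeg f y = f.finrank y := by
  refine (Scheme.Hom.finrank_of_isPullback _ _ _ _ (IsPullback.of_hasPullback f (Y.fromSpecResidueField y))
    (pt (Y.residueField y))).trans ?_
  rw [Scheme.fromSpecResidueField_apply]

/-- A closed subscheme of a finite scheme over a field with at least its degree is everything. -/
theorem finrank_closed_le {k : Type u} [Field k] {A T : Scheme.{u}} (j : A ⟶ T) [IsClosedImmersion j]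
    (p : T ⟶ Spec (CommRingCat.of k)) [IsFinite p] :
    (j ≫ p).finrank (pt k) ≤ p.finrank (pt k) ∧
      (p.finrank (pt k) ≤ (j ≫ p).finrank (pt k) → IsIso j) := by
  haveI : IsAffine T := isAffine_of_isAffineHom p
  haveI : IsAffine A := isAffine_of_isAffineHom (j ≫ p)
  rw [Groth.L00.BddFib.finrank_eq, Groth.L00.BddFib.finrank_eq]
  letI : Algebra k Γ(T, ⊤) := BddFib.secAlgebra (CommRingCat.of k) p
  letI : Algebra k Γ(A, ⊤) := BddFib.secAlgebra (CommRingCat.of k) (j ≫ p)
  let φ : Γ(T, ⊤) →ₐ[k] Γ(A, ⊤) :=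
    { j.appTop.hom with
      commutes' := fun c => by
        show j.appTop.hom (((Scheme.ΓSpecIso (CommRingCat.of k)).inv ≫ p.appTop).hom c) =
          ((Scheme.ΓSpecIso (CommRingCat.of k)).inv ≫ (j ≫ p).appTop).hom c
        rw [Scheme.Hom.comp_appTop, ← Category.assoc]
        rfl }
  haveI : Module.Finite k Γ(T, ⊤) :=
    ((Groth.L00.BddFib.iff p (p.finrank (pt k))).2 ⟨inferInstance, le_rfl⟩).2.1
  have hsurj : Function.Surjective φ.toLinearMap :=
    (isClosedImmersion_iff_isAffineHom.1 ‹IsClosedImmersion j›).2 ⊤ (isAffineOpen_top _)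
  haveI : Module.Finite k Γ(A, ⊤) := Module.Finite.of_surjective _ hsurj
  refine ⟨LinearMap.finrank_le_finrank_of_surjective hsurj, fun h => ?_⟩
  have heq := le_antisymm h (LinearMap.finrank_le_finrank_of_surjective hsurj)
  haveI : IsIso j.appTop := (ConcreteCategory.isIso_iff_bijective _).2
    ⟨(LinearMap.injective_iff_surjective_of_finrank_eq_finrank heq).2 hsurj, hsurj⟩
  have hj : j = A.isoSpec.hom ≫ Spec.map j.appTop ≫ T.isoSpec.inv := by
    rw [Scheme.isoSpec_hom_naturality_assoc, Iso.hom_inv_id, Category.comp_id]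
  rw [hj]
  infer_instance

/-- A clopen piece carries at most the degree; with equality only if it contains the fibre. -/
theorem fdeg_piece {n : ℕ} (hf : BddFib.FibreDegLE f n) (U : X.Opens) (hU : IsClosed (U : Set X)) (y : Y) :
    fdeg (U.ι ≫ f) y ≤ fdeg f y ∧ (fdeg f y ≤ fdeg (U.ι ≫ f) y ↔ f ⁻¹' {y} ⊆ U) := by
  haveI : IsClosedImmersion U.ι := IsClosedImmersion.of_isPreimmersion _ (by rwa [Scheme.Opens.range_ι])
  have hUf : BddFib.FibreDegLE (U.ι ≫ f) (1 * n) :=
    Groth.L06.BddFibDeg.comp _ _ _ _ (Groth.L00.BddFib.immersion _) hf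
  haveI := isFinite_fiber hf y
  let x := Y.fromSpecResidueField y
  let j := pullback.snd U.ι (pullback.fst f x)
  haveI : IsClosedImmersion j := MorphismProperty.pullback_snd (P := @IsClosedImmersion) _ _ ‹IsClosedImmersion U.ι›
  haveI : IsOpenImmersion j := MorphismProperty.pullback_snd (P := @IsOpenImmersion) _ _ inferInstance
  have sq := (IsPullback.of_hasPullback U.ι (pullback.fst f x)).paste_vert (IsPullback.of_hasPullback f x)
  haveI := flat_fiber (f := f) y
  haveI : IsFinite (j ≫ pullback.snd f x) := inferInstance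
  haveI := flat_toField (k := Y.residueField y) (j ≫ pullback.snd f x)
  haveI := flat_toField (k := Y.residueField y) (pullback.snd (U.ι ≫ f) x)
  haveI : IsFinite (pullback.snd (U.ι ≫ f) x) :=
    ((Groth.L00.BddFib.iff (k := Y.residueField y) _ (1 * n)).1 (hUf y)).1
  have hjd : (j ≫ pullback.snd f x).finrank (pt (Y.residueField y)) = fdeg (U.ι ≫ f) y := by
    show (pullback.snd U.ι (pullback.fst f x) ≫ pullback.snd f x).finrank _ = _
    rw [← sq.isoPullback_hom_snd, Scheme.Hom.finrank_comp_left_of_isIso]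
    rfl
  obtain ⟨h1, h2⟩ := finrank_closed_le (k := Y.residueField y) j (pullback.snd f x)
  rw [hjd] at h1 h2
  refine ⟨h1, fun h => ?_, fun h => ?_⟩
  · haveI : IsIso j := h2 h
    intro z hz
    obtain ⟨t, rfl, -⟩ : ∃ t : ↥(f.fiber y), pullback.fst f x t = z ∧ True := by
      have : z ∈ Set.range (f.fiberι y) := by rw [Scheme.Hom.range_fiberι]; exact hz
      obtain ⟨t, ht⟩ := this
      exact ⟨t, ht, trivial⟩
    obtain ⟨b, rfl⟩ := j.surjective t
    rw [← Scheme.Hom.comp_apply]
    show (pullback.snd U.ι (pullback.fst f x) ≫ pullback.fst f x) b ∈ (U : Set X)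
    rw [← pullback.condition, Scheme.Hom.comp_apply]
    exact (pullback.fst U.ι (pullback.fst f x) b).2
  · haveI : Surjective j := ⟨fun t => by
      show t ∈ Set.range (pullback.snd U.ι (pullback.fst f x))
      rw [Scheme.Pullback.range_snd, Set.mem_preimage, Scheme.Opens.range_ι]
      refine h ?_
      show f (f.fiberι y t) = y
      have := Scheme.Hom.range_fiberι f y
      exact (this ▸ ⟨t, rfl⟩ : f.fiberι y t ∈ f ⁻¹' {y})⟩
    haveI : IsIso j := (isIso_iff_isOpenImmersion_and_surjective _).mpr ⟨inferInstance, inferInstance⟩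
    rw [← hjd, Scheme.Hom.finrank_comp_left_of_isIso]
    rfl

/-- Étale locally on the base the whole fibre lies in a piece which is finite over the base. -/
theorem exists_finite_piece [LocallyOfFiniteType f] [IsSeparated f] [LocallyQuasiFinite f] (y : Y)
    (hfin : (f ⁻¹' {y}).Finite) :
    ∃ (V : Scheme.{u}) (g : V ⟶ Y) (v : V) (U : (pullback f g).Opens), Etale g ∧ g v = y ∧
      IsClosed (U : Set ↑(pullback f g)) ∧ IsFinite (U.ι ≫ pullback.snd f g) ∧
      pullback.snd f g ⁻¹' {v} ⊆ U := by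
  obtain ⟨V, g, v, hg, hv, κ, _, W, q, hWc, hdisj, hW, hcov⟩ :=
    Groth.L20.Weight.exists_isolate f y hfin.toFinset fun x _ => f.quasiFiniteAt x
  let U : (pullback f g).Opens := ⨆ a, W a
  have hU : (U : Set ↑(pullback f g)) = ⋃ a, (W a : Set ↑(pullback f g)) := TopologicalSpace.Opens.coe_iSup _
  refine ⟨V, g, v, U, hg, hv, ?_, ?_, ?_⟩
  · rw [hU]
    exact isClosed_iUnion_of_finite fun a => (hWc a).1
  · haveI : UniversallyClosed (U.ι ≫ pullback.snd f g) := by
      refine Groth.L20.Weight.universallyClosed_of_cover _ (fun a => U.ι ⁻¹ᵁ W a) (fun z => ?_) fun a => ?_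
      · have hz : z.1 ∈ ⨆ a, W a := z.2
        obtain ⟨a, ha⟩ := TopologicalSpace.Opens.mem_iSup.1 hz
        exact ⟨a, ha⟩
      · haveI := (hW a).2.1
        have hle : W a ≤ U := le_iSup W a
        have e : (U.ι ⁻¹ᵁ W a).ι ≫ U.ι = (U.ι ∣_ W a) ≫ (W a).ι := (morphismRestrict_ι _ _).symm
        haveI : IsIso (U.ι ∣_ W a) := by
          refine (isIso_iff_isOpenImmersion_and_surjective _).mpr ⟨inferInstance, ⟨fun z => ?_⟩⟩
          exact ⟨⟨⟨z.1, hle z.2⟩, z.2⟩, Subtype.ext (morphismRestrict_base_coe _ _ _)⟩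
        rw [← Category.assoc, e, Category.assoc]
        infer_instance
    haveI : IsProper (U.ι ≫ pullback.snd f g) := ⟨⟩
    exact IsFinite.of_isProper_of_locallyQuasiFinite _
  · intro z hz
    obtain ⟨a, ha⟩ := hcov z hz (hfin.mem_toFinset.2 (by
      show f (pullback.fst f g z) = y
      rw [← Scheme.Hom.comp_apply, pullback.condition, Scheme.Hom.comp_apply, hz, hv]))
    exact TopologicalSpace.Opens.mem_iSup.2 ⟨a, ha⟩

/-- Near every point: a neighbourhood on an étale chart where the degree is at least that at the point. -/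
theorem exists_nbhd [Flat f] [LocallyOfFinitePresentation f] [IsSeparated f] [LocallyQuasiFinite f]
    {n : ℕ} (hf : BddFib.FibreDegLE f n) (y : Y) :
    ∃ (V : Scheme.{u}) (g : V ⟶ Y) (_ : Etale g) (N : V.Opens), y ∈ g '' (N : Set V) ∧
      (∀ z ∈ N, fdeg f y ≤ fdeg f (g z)) ∧
      ((∀ z ∈ N, fdeg f (g z) = fdeg f y) → IsFinite (pullback.snd f g ∣_ N)) := by
  have hfin : (f ⁻¹' {y}).Finite := by
    obtain ⟨h, -⟩ := Groth.L06.BddFibDeg.discrete (k := Y.residueField y) _ n (hf y)
    rw [← Scheme.Hom.range_fiberι]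
    exact Set.finite_range _
  obtain ⟨V, g, v, U, hg, hv, hUc, hUf, hUv⟩ := exists_finite_piece y hfin
  haveI := hUf
  let π := pullback.snd f g
  have hπ : BddFib.FibreDegLE π n := Groth.L00.BddFib.baseChange (IsPullback.of_hasPullback f g) n hf
  have hbc : ∀ z, fdeg π z = fdeg f (g z) := fun z => fdeg_of_isPullback hf (IsPullback.of_hasPullback f g) z
  let N : V.Opens := ⟨{z | (U.ι ≫ π).finrank z = (U.ι ≫ π).finrank v},
    (U.ι ≫ π).isLocallyConstant_finrank.isOpen_fiber _⟩
  have hy : fdeg f y = (U.ι ≫ π).finrank v := by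
    rw [← hv, ← hbc, ← fdeg_eq_finrank]
    exact le_antisymm ((fdeg_piece hπ U hUc v).2.2 hUv) (fdeg_piece hπ U hUc v).1
  refine ⟨V, g, hg, N, ⟨v, rfl, hv⟩, fun z hz => ?_, fun heq => ?_⟩
  · rw [hy, ← hbc, ← show (U.ι ≫ π).finrank z = (U.ι ≫ π).finrank v from hz, ← fdeg_eq_finrank]
    exact (fdeg_piece hπ U hUc z).1
  · have hle : π ⁻¹ᵁ N ≤ U := fun w hw => by
      refine (fdeg_piece hπ U hUc (π w)).2.1 ?_ rfl
      rw [hbc, heq _ hw, hy, fdeg_eq_finrank]
      exact le_of_eq (Eq.symm hw)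
    haveI hfin2 : IsFinite ((U.ι ≫ π) ∣_ N) := inferInstance
    haveI : IsIso (U.ι ∣_ π ⁻¹ᵁ N) := (isIso_iff_isOpenImmersion_and_surjective _).mpr
      ⟨inferInstance, ⟨fun z => ⟨⟨⟨z.1, hle z.2⟩, z.2⟩, Subtype.ext (morphismRestrict_base_coe _ _ _)⟩⟩⟩
    have e := morphismRestrict_comp U.ι π N
    rw [e] at hfin2
    exact (MorphismProperty.cancel_left_of_respectsIso @IsFinite (U.ι ∣_ π ⁻¹ᵁ N) (π ∣_ N)).1 hfin2

/-- The degree is lower semicontinuous. -/
theorem isClosed_fdeg_le [Flat f] [LocallyOfFinitePresentation f] [IsSeparated f] [LocallyQuasiFinite f]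
    {n : ℕ} (hf : BddFib.FibreDegLE f n) (m : ℕ) : IsClosed {y | fdeg f y ≤ m} := by
  rw [← isOpen_compl_iff, isOpen_iff_forall_mem_open]
  intro y hy
  obtain ⟨V, g, _, N, hyN, hle, -⟩ := exists_nbhd hf y
  refine ⟨g '' (N : Set V), ?_, g.isOpenMap _ N.isOpen, hyN⟩
  rintro _ ⟨z, hz, rfl⟩ hz'
  exact hy ((hle z hz).trans hz')

/-- Constant degree means finite. -/
theorem isFinite_of_fdeg_const [Flat f] [LocallyOfFinitePresentation f] [IsSeparated f] [LocallyQuasiFinite f]
    {n : ℕ} (hf : BddFib.FibreDegLE f n) (r : ℕ) (hr : ∀ y, fdeg f y = r) : IsFinite f := by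
  refine IsZariskiLocalAtTarget.of_forall_exists_morphismRestrict fun y => ?_
  obtain ⟨V, g, _, N, hyN, -, hfinite⟩ := exists_nbhd hf y
  have hfin' := hfinite fun z _ => (hr _).trans (hr y).symm
  let W : Y.Opens := ⟨g '' (N : Set V), g.isOpenMap _ N.2⟩
  have hNW : N ≤ g ⁻¹ᵁ W := fun v hv => ⟨v, hv, rfl⟩
  refine ⟨W, hyN, ?_⟩
  let k := g.resLE W N hNW
  have hk : k ≫ W.ι = N.ι ≫ g := Scheme.Hom.resLE_comp_ι g hNW
  have : Surjective k := ⟨by
    rintro ⟨z, v, hv, rfl⟩
    refine ⟨⟨v, hv⟩, W.ι.isOpenEmbedding.injective ?_⟩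
    rw [← Scheme.Hom.comp_apply, hk]
    rfl⟩
  have : Etale k := inferInstanceAs (Etale (g.resLE W N hNW))
  have h1 : IsPullback ((pullback.snd f g ⁻¹ᵁ N).ι ≫ pullback.fst f g) (pullback.snd f g ∣_ N) f (k ≫ W.ι) := by
    rw [hk]
    exact (isPullback_morphismRestrict (pullback.snd f g) N).flip.paste_horiz (IsPullback.of_hasPullback f g)
  let top := (isPullback_morphismRestrict f W).flip.lift ((pullback.snd f g ⁻¹ᵁ N).ι ≫ pullback.fst f g)
    ((pullback.snd f g ∣_ N) ≫ k) (by rw [h1.w, Category.assoc])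
  have h2 : IsPullback top (pullback.snd f g ∣_ N) (f ∣_ W) k := by
    refine IsPullback.of_right ?_ ((isPullback_morphismRestrict f W).flip.lift_snd _ _ _) (isPullback_morphismRestrict f W).flip
    rw [(isPullback_morphismRestrict f W).flip.lift_fst]
    exact h1
  exact MorphismProperty.of_isPullback_of_descendsAlong (P := @IsFinite)
    (Q := @Surjective ⊓ @Flat ⊓ @LocallyOfFinitePresentation) h2.flip
    ⟨⟨inferInstance, inferInstance⟩, inferInstance⟩ hfin'

/-- Finite locally free of degree `r` means constant fibre degree `r`. -/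
theorem isFinLocFreeOfDeg_iff [Flat f] [LocallyOfFinitePresentation f] [IsSeparated f] [LocallyQuasiFinite f]
    {n : ℕ} (hf : BddFib.FibreDegLE f n) (r : ℕ) :
    Mor2.IsFinLocFreeOfDeg r f ↔ ∀ y, fdeg f y = r := by
  constructor
  · rintro ⟨⟨h1, h2, -⟩, hd⟩ y
    haveI := h1
    rw [fdeg_eq_finrank]
    exact hd y
  · intro h
    haveI := isFinite_of_fdeg_const hf r h
    exact ⟨⟨inferInstance, inferInstance, inferInstance⟩, fun y => (fdeg_eq_finrank y).symm.trans (h y)⟩

end Groth.L09.UnivBdd
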