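import Groth.Prelude.Def_W4decUnivBdd
import Groth.Agent.L06.BddFibDeg
import Groth.Agent.L06.BddFibQF
import Groth.Agent.L23.Good

/-!
# Degrees of fibres of a morphism from a scheme to a sheaf, at a field-valued point
-/

universe u

open CategoryTheory CategoryTheory.Limits AlgebraicGeometry Opposite AlgSp

set_option autoImplicit false
set_option linter.style.haveILetI false
set_option backward.isDefEq.respectTransparency.types false

namespace Groth.L09.UnivBdd

open Groth.L23

variable {S : Scheme.{u}} {F : Sp S} {U : Over S}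

/-- `n` bounds the degree of the fibre of `a` at the field-valued point `q`. -/
def Deg (n : ℕ) (a : (yon S).obj U ⟶ F) (q : FieldPt F) : Prop :=
  ∀ (T : Over S) (c : T ⟶ q.pt) (snd : (yon S).obj T ⟶ (yon S).obj U),
    IsPullback ((yon S).map c) snd q.toHom a → BddFib.FiniteOfDegLE (CommRingCat.of q.K) c.left n

theorem degFibresLE_iff {n : ℕ} (a : (yon S).obj U ⟶ F) :
    W4dec.DegFibresLE n a ↔ ∀ q, Deg n a q := by
  refine forall_congr' fun q => forall₄_congr fun T c snd _ => ?_
  refine Iff.trans ?_ (Groth.L00.BddFib.iff (k := q.K) c.left n).symm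
  exact ⟨fun h => ⟨h.1, h.2 _⟩, fun ⟨h1, h2⟩ => ⟨h1, fun s => by
    rwa [show s = Groth.L00.BddFib.pt q.K from Subsingleton.elim (α := PrimeSpectrum q.K) _ _]⟩⟩

theorem Deg.mono {n m : ℕ} {a : (yon S).obj U ⟶ F} {q : FieldPt F} (h : Deg n a q) (hnm : n ≤ m) :
    Deg m a q := fun T c snd sq => ⟨(h T c snd sq).1, (h T c snd sq).2.1, (h T c snd sq).2.2.trans hnm⟩

/-- One fibre product suffices. -/
theorem deg_of_one {n : ℕ} {a : (yon S).obj U ⟶ F} {q : FieldPt F} {T : Over S} {c : T ⟶ q.pt}
    {snd : (yon S).obj T ⟶ (yon S).obj U} (sq : IsPullback ((yon S).map c) snd q.toHom a)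
    (h : BddFib.FiniteOfDegLE (CommRingCat.of q.K) c.left n) : Deg n a q := by
  intro T' c' snd' sq'
  let e : T' ≅ T := (yon S).preimageIso (sq'.isoIsPullback _ _ sq)
  have he : e.hom ≫ c = c' := (yon S).map_injective (by
    rw [Functor.map_comp, Functor.preimageIso_hom, Functor.map_preimage, IsPullback.isoIsPullback_hom_fst])
  have := Groth.L00.BddFib.of_iso c.left ((Over.forget S).mapIso e) h
  rw [← he, Over.comp_left]
  exact this

/-- A cartesian square of schemes over `S` gives a cartesian square of sheaves. -/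
theorem isPullback_yon {A B C D : Over S} {f : A ⟶ B} {g : A ⟶ C} {h : B ⟶ D} {k : C ⟶ D}
    (sq : IsPullback f.left g.left h.left k.left) :
    IsPullback ((yon S).map f) ((yon S).map g) ((yon S).map h) ((yon S).map k) := by
  have w : f ≫ h = g ≫ k := Over.OverMorphism.ext sq.w
  exact (IsPullback.of_map (Over.forget S) w sq).map (yon S)

/-- The fibre of a base change to a scheme. -/
theorem deg_iff_finiteOfDegLE {n : ℕ} {a : (yon S).obj U ⟶ F} {B R : Over S} {g : (yon S).obj B ⟶ F}
    {p : R ⟶ B} {r : (yon S).obj R ⟶ (yon S).obj U} (sq : IsPullback ((yon S).map p) r g a)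
    {q : FieldPt F} (b : q.pt ⟶ B) (hb : (yon S).map b ≫ g = q.toHom) :
    Deg n a q ↔ BddFib.FiniteOfDegLE (CommRingCat.of q.K) (pullback.snd p.left b.left) n := by
  let T : Over S := Over.mk (pullback.snd p.left b.left ≫ q.pt.hom)
  let c : T ⟶ q.pt := Over.homMk (pullback.snd p.left b.left) rfl
  let e : T ⟶ R := Over.homMk (pullback.fst p.left b.left) (by
    show pullback.fst p.left b.left ≫ R.hom = pullback.snd p.left b.left ≫ q.pt.hom
    rw [← Over.w p, pullback.condition_assoc, Over.w b])
  have sT : IsPullback ((yon S).map c) ((yon S).map e) ((yon S).map b) ((yon S).map p) :=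
    isPullback_yon (IsPullback.of_hasPullback p.left b.left).flip
  have key : IsPullback ((yon S).map c) ((yon S).map e ≫ r) q.toHom a := by
    rw [← hb]
    exact (sT.flip.paste_horiz sq.flip).flip
  exact ⟨fun h => h T c _ key, fun h => deg_of_one key h⟩

theorem fibreDegLE_of {n : ℕ} {a : (yon S).obj U ⟶ F} (h : W4dec.DegFibresLE n a) {B R : Over S}
    {g : (yon S).obj B ⟶ F} {p : R ⟶ B} {r : (yon S).obj R ⟶ (yon S).obj U}
    (sq : IsPullback ((yon S).map p) r g a) : BddFib.FibreDegLE p.left n := by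
  rw [Groth.L00.BddFib.forall_field_iff]
  intro k _ x
  let b : Over.mk (x ≫ B.hom) ⟶ B := Over.homMk x rfl
  let q := Pt.ofHom (x ≫ B.hom) ((yon S).map b ≫ g)
  exact (deg_iff_finiteOfDegLE sq (q := q) b (Pt.toHom_ofHom _ _).symm).1 ((degFibresLE_iff a).1 h q)

/-- Field extensions do not change the degree. -/
theorem deg_iff_of_map (hX : IsAlgSpace F) {n : ℕ} {a : (yon S).obj U ⟶ F} {q q' : FieldPt F}
    (b : q'.pt ⟶ q.pt) (hb : (yon S).map b ≫ q.toHom = q'.toHom) : Deg n a q ↔ Deg n a q' := by
  obtain ⟨T, c, t₂, sT⟩ := exists_isPullback_of_representable (hX.representable_from_yon q.toHom) a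
  rw [deg_iff_finiteOfDegLE sT (q := q') b hb]
  refine Iff.trans ⟨fun h => h T c _ sT, fun h => deg_of_one sT h⟩
    (Groth.L00.BddFib.iff_of_isPullback c.left b.left (IsPullback.of_hasPullback c.left b.left) n).symm

theorem deg_congr (hX : IsAlgSpace F) {n : ℕ} {a : (yon S).obj U ⟶ F} {q q' : FieldPt F}
    (e : Points.mk q = Points.mk q') : Deg n a q ↔ Deg n a q' := by
  obtain ⟨Ω, _, w, i, j, h⟩ := (rel_iff_toHom q q').1 (Points.mk_eq_mk_iff.1 e)
  have hi := deg_iff_of_map hX (n := n) (a := a) (q := q) (q' := Pt.ofHom w ((yon S).map i ≫ q.toHom)) i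
    (Pt.toHom_ofHom _ _).symm
  have hj := deg_iff_of_map hX (n := n) (a := a) (q := q') (q' := Pt.ofHom w ((yon S).map i ≫ q.toHom)) j
    (h.symm.trans (Pt.toHom_ofHom _ _).symm)
  exact hi.trans hj.symm

theorem finiteOfDegLE_isEmpty {k : Type u} [Field k] {T : Scheme.{u}} [IsEmpty T]
    (p : T ⟶ Spec (CommRingCat.of k)) (n : ℕ) : BddFib.FiniteOfDegLE (CommRingCat.of k) p n := by
  letI : Algebra k Γ(T, ⊤) := BddFib.secAlgebra (CommRingCat.of k) p
  haveI : IsFinite p := inferInstance
  refine (Groth.L00.BddFib.iff p n).2 ⟨inferInstance, ?_⟩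
  rw [Groth.L00.BddFib.finrank_eq, Module.finrank_zero_of_subsingleton]
  exact n.zero_le

/-- Off the image there is no fibre. -/
theorem deg_of_not_mem (hX : IsAlgSpace F) {n : ℕ} {a : (yon S).obj U ⟶ F} {q : FieldPt F}
    (h : ∀ v : U.left, Points.ofPt a v ≠ Points.mk q) : Deg n a q := by
  obtain ⟨T, c, t₂, sT⟩ := exists_isPullback_of_representable (hX.representable_from_yon q.toHom) a
  haveI : IsEmpty T.left := ⟨fun z => h (t₂.left z) (by
    rw [← ofPt_comp, ← sT.w, ofPt_comp, Points.ofPt_toHom])⟩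
  exact deg_of_one sT (finiteOfDegLE_isEmpty _ n)

/-- Composition of bounds. -/
theorem degFibresLE_comp (hX : IsAlgSpace F) {V : Over S} (f : V ⟶ U) (a : (yon S).obj U ⟶ F) {m n : ℕ}
    (hf : W4dec.DegFibresLE m ((yon S).map f)) (ha : W4dec.DegFibresLE n a) :
    W4dec.DegFibresLE (m * n) ((yon S).map f ≫ a) := by
  rw [degFibresLE_iff]
  intro q
  obtain ⟨T, c, t₂, sT⟩ := exists_isPullback_of_representable (hX.representable_from_yon q.toHom) a
  let R : Over S := Over.mk (pullback.fst t₂.left f.left ≫ T.hom)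
  let p : R ⟶ T := Over.homMk (pullback.fst t₂.left f.left) rfl
  let e : R ⟶ V := Over.homMk (pullback.snd t₂.left f.left) (by
    show pullback.snd t₂.left f.left ≫ V.hom = pullback.fst t₂.left f.left ≫ T.hom
    rw [← Over.w f, ← pullback.condition_assoc, Over.w t₂])
  have sR : IsPullback ((yon S).map p) ((yon S).map e) ((yon S).map t₂) ((yon S).map f) :=
    isPullback_yon (IsPullback.of_hasPullback t₂.left f.left)
  have key : IsPullback ((yon S).map (p ≫ c)) ((yon S).map e) q.toHom ((yon S).map f ≫ a) := by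
    rw [Functor.map_comp]
    exact sR.paste_horiz sT
  refine deg_of_one key ?_
  rw [Over.comp_left]
  exact Groth.L06.BddFibDeg.comp_field p.left c.left m n (fibreDegLE_of hf sR)
    ((degFibresLE_iff a).1 ha q T c _ sT)

/-- Descent along flat surjective morphisms of the source. -/
theorem degFibresLE_of_comp (hX : IsAlgSpace F) {V : Over S} (f : V ⟶ U) [Flat f.left] [Surjective f.left]
    (a : (yon S).obj U ⟶ F) {n : ℕ} (h : W4dec.DegFibresLE n ((yon S).map f ≫ a)) :
    W4dec.DegFibresLE n a := by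
  rw [degFibresLE_iff]
  intro q
  obtain ⟨T, c, t₂, sT⟩ := exists_isPullback_of_representable (hX.representable_from_yon q.toHom) a
  let R : Over S := Over.mk (pullback.fst t₂.left f.left ≫ T.hom)
  let p : R ⟶ T := Over.homMk (pullback.fst t₂.left f.left) rfl
  let e : R ⟶ V := Over.homMk (pullback.snd t₂.left f.left) (by
    show pullback.snd t₂.left f.left ≫ V.hom = pullback.fst t₂.left f.left ≫ T.hom
    rw [← Over.w f, ← pullback.condition_assoc, Over.w t₂])
  have sR : IsPullback ((yon S).map p) ((yon S).map e) ((yon S).map t₂) ((yon S).map f) :=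
    isPullback_yon (IsPullback.of_hasPullback t₂.left f.left)
  have key : IsPullback ((yon S).map (p ≫ c)) ((yon S).map e) q.toHom ((yon S).map f ≫ a) := by
    rw [Functor.map_comp]
    exact sR.paste_horiz sT
  have hp := (degFibresLE_iff _).1 h q R (p ≫ c) _ key
  rw [Over.comp_left] at hp
  haveI : Flat p.left := MorphismProperty.pullback_fst (P := @Flat) _ _ ‹Flat f.left›
  haveI : Surjective p.left := MorphismProperty.pullback_fst (P := @Surjective) _ _ ‹Surjective f.left›
  exact deg_of_one sT (Groth.L06.BddFibDeg.triangle_field p.left c.left n hp)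

/-- Fibres of points have at most `n` elements. -/
theorem encard_fibre_le (hX : IsAlgSpace F) {a : (yon S).obj U ⟶ F} {n : ℕ} (h : W4dec.DegFibresLE n a)
    (x : Points F) : (Points.ofPt a ⁻¹' {x}).encard ≤ n := by
  obtain ⟨q, rfl⟩ := Points.mk_surjective x
  obtain ⟨T, c, t₂, sT⟩ := exists_isPullback_of_representable (hX.representable_from_yon q.toHom) a
  obtain ⟨hfin, hcard, -⟩ := Groth.L00.BddFib.points (k := q.K) c.left n ((degFibresLE_iff a).1 h q T c _ sT)
  haveI := hfin
  have hsub : Points.ofPt a ⁻¹' {Points.mk q} ⊆ Set.range t₂.left := by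
    intro v hv
    obtain ⟨z, -, hz⟩ := (ofPt_eq_ofPt_iff sT (Classical.arbitrary q.pt.left) v).1 (by
      rw [Points.ofPt_toHom]; exact hv.symm)
    exact ⟨z, hz⟩
  refine (Set.encard_le_encard hsub).trans ?_
  rw [← Set.image_univ]
  refine (Set.encard_image_le _ _).trans ?_
  rw [Set.encard_univ, ENat.card_eq_coe_natCard]
  exact_mod_cast hcard

end Groth.L09.UnivBdd
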