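import Groth.Agent.L09.UnivBdd.Basic
import Groth.Agent.L23.Compact
import Groth.Agent.L23.QFPoints
import Groth.Prelude.Def_AlgSpCov

/-!
# Universally bounded fibres of étale charts
-/

universe u

open CategoryTheory CategoryTheory.Limits AlgebraicGeometry Opposite AlgSp

set_option autoImplicit false
set_option linter.style.haveILetI false
set_option backward.isDefEq.respectTransparency.types false

namespace Groth.L09.UnivBdd

open Groth.L23

variable {S : Scheme.{u}} {F G : Sp S} {U : Over S}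

theorem degFibresLE_yon_map {V : Over S} {f : V ⟶ U} {n : ℕ} (h : BddFib.FibreDegLE f.left n) :
    W4dec.DegFibresLE n ((yon S).map f) := by
  rw [degFibresLE_iff]
  intro q
  have sq : IsPullback ((yon S).map f) (𝟙 _) (𝟙 ((yon S).obj U)) ((yon S).map f) :=
    IsPullback.of_vert_isIso ⟨by simp⟩
  refine (deg_iff_finiteOfDegLE sq ((yon S).preimage q.toHom) (by simp)).2 ?_
  exact (Groth.L00.BddFib.forall_field_iff f.left n).1 h q.K _

/-- Finitely many open pieces. -/
theorem degFibresLE_cover (hX : IsAlgSpace F) (a : (yon S).obj U ⟶ F) {κ : Type u} [Fintype κ]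
    (O : κ → U.left.Opens) (hcov : ∀ x : U.left, ∃ k, x ∈ O k) (n : κ → ℕ)
    (h : ∀ k, W4dec.DegFibresLE (n k)
      ((yon S).map (Over.homMk (O k).ι rfl : Over.mk ((O k).ι ≫ U.hom) ⟶ U) ≫ a)) :
    W4dec.DegFibresLE (∑ k, n k) a := by
  rw [degFibresLE_iff]
  intro q
  obtain ⟨T, c, t₂, sT⟩ := exists_isPullback_of_representable (hX.representable_from_yon q.toHom) a
  refine deg_of_one sT (Groth.L06.BddFibDeg.cover_field c.left (fun k => t₂.left ⁻¹ᵁ O k) (fun t => hcov _) n fun k => ?_)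
  let R : Over S := Over.mk ((t₂.left ⁻¹ᵁ O k).ι ≫ T.hom)
  let p : R ⟶ T := Over.homMk (t₂.left ⁻¹ᵁ O k).ι rfl
  let e : R ⟶ Over.mk ((O k).ι ≫ U.hom) := Over.homMk (t₂.left ∣_ O k) (by
    show (t₂.left ∣_ O k) ≫ (O k).ι ≫ U.hom = (t₂.left ⁻¹ᵁ O k).ι ≫ T.hom
    rw [morphismRestrict_ι_assoc, Over.w t₂])
  have sR : IsPullback ((yon S).map p) ((yon S).map e) ((yon S).map t₂)
      ((yon S).map (Over.homMk (O k).ι rfl : Over.mk ((O k).ι ≫ U.hom) ⟶ U)) :=
    isPullback_yon (isPullback_morphismRestrict t₂.left (O k)).flip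
  have key : IsPullback ((yon S).map (p ≫ c)) ((yon S).map e) q.toHom
      ((yon S).map (Over.homMk (O k).ι rfl : Over.mk ((O k).ι ≫ U.hom) ⟶ U) ≫ a) := by
    rw [Functor.map_comp]
    exact sR.paste_horiz sT
  have := (degFibresLE_iff _).1 (h k) q R (p ≫ c) _ key
  rwa [Over.comp_left] at this

/-- Base change. -/
theorem degFibresLE_of_isPullback {V : Over S} {n : ℕ} {a : (yon S).obj U ⟶ F} {g : G ⟶ F}
    {fst : (yon S).obj V ⟶ (yon S).obj U} {snd : (yon S).obj V ⟶ G} (sq : IsPullback fst snd a g)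
    (ha : W4dec.DegFibresLE n a) : W4dec.DegFibresLE n snd := by
  rw [degFibresLE_iff] at ha ⊢
  intro q T c t sT
  refine ha (q.map g) T c (t ≫ fst) ?_
  rw [FieldPt.toHom_map]
  exact (sT.flip.paste_horiz sq).flip

/-- Descent of bounds when the image is reached. -/
theorem degFibresLE_of_base (hX : IsAlgSpace F) {V : Over S} {n : ℕ} {a : (yon S).obj U ⟶ F} {g : G ⟶ F}
    {fst : (yon S).obj V ⟶ (yon S).obj U} {snd : (yon S).obj V ⟶ G} (sq : IsPullback fst snd a g)
    (him : Set.range (Points.ofPt a) ⊆ Set.range (Points.map g)) (h : W4dec.DegFibresLE n snd) :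
    W4dec.DegFibresLE n a := by
  rw [degFibresLE_iff] at h ⊢
  intro q
  by_cases hq : ∃ v : U.left, Points.ofPt a v = Points.mk q
  · obtain ⟨v, hv⟩ := hq
    obtain ⟨y, hy⟩ := him ⟨v, rfl⟩
    obtain ⟨q', rfl⟩ := Points.mk_surjective y
    rw [Points.map_mk, hv] at hy
    refine (deg_congr hX hy).1 fun T c t sT => ?_
    rw [FieldPt.toHom_map] at sT
    let l := sq.lift t ((yon S).map c ≫ q'.toHom) (by
      rw [Category.assoc]; exact sT.w.symm)
    refine h q' T c l (IsPullback.flip (IsPullback.of_right ?_ (sq.lift_snd _ _ _) sq))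
    rw [sq.lift_fst]
    exact sT.flip
  · exact deg_of_not_mem hX fun v hv => hq ⟨v, hv⟩

/-- Monomorphisms of the target do not matter. -/
theorem degFibresLE_comp_mono (hX : IsAlgSpace F) (a : (yon S).obj U ⟶ G) (j : G ⟶ F) [Mono j] {n : ℕ}
    (h : W4dec.DegFibresLE n a) : W4dec.DegFibresLE n (a ≫ j) := by
  refine degFibresLE_of_base hX (g := j) (fst := 𝟙 _) (snd := a) ?_ ?_ h
  · simpa using (IsPullback.of_horiz_isIso (⟨by simp⟩ : CommSq (𝟙 _) a a (𝟙 G))).paste_vert
      (show IsPullback (𝟙 G) (𝟙 G) j j from IsKernelPair.id_of_mono j)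
  · rintro _ ⟨v, rfl⟩
    exact ⟨Points.ofPt a v, Points.map_ofPt a j v⟩

/-- Boundedness of étale affine charts is tested on a covering. -/
theorem hasUnivBddFibres_of_cover (hX : IsAlgSpace F) {ι : Type*} (W : ι → Over S)
    (φ : ∀ i, (yon S).obj (W i) ⟶ F) (hφ : ∀ i, RepWith @Etale (φ i))
    (hsurj : ∀ x : Points F, ∃ (i : ι) (v : (W i).left), Points.ofPt (φ i) v = x)
    (hb : ∀ i, W4dec.HasUnivBddFibres (φ i)) (ψ : (yon S).obj U ⟶ F) [IsAffine U.left]
    (hψ : RepWith @Etale ψ) : W4dec.HasUnivBddFibres ψ := by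
  classical
  have key : ∀ v : U.left, ∃ (O : U.left.Opens) (n : ℕ), v ∈ O ∧ W4dec.DegFibresLE n
      ((yon S).map (Over.homMk O.ι rfl : Over.mk (O.ι ≫ U.hom) ⟶ U) ≫ ψ) := by
    intro v
    obtain ⟨i, w, hw⟩ := hsurj (Points.ofPt ψ v)
    obtain ⟨R, p, r, sq⟩ := exists_isPullback_of_representable (hX.representable_from_yon (φ i)) ψ
    obtain ⟨x, -, hx⟩ := (ofPt_eq_ofPt_iff sq w v).1 hw
    have : Etale r.left := repWith_prop (hφ i) sq
    have : Etale p.left := repWith_prop hψ sq.flip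
    obtain ⟨_, ⟨A, hA, rfl⟩, hxA, -⟩ :=
      R.left.isBasis_affineOpens.exists_subset_of_mem_open (Set.mem_univ x) isOpen_univ
    change R.left.Opens at A
    have : IsAffine (A : Scheme.{u}) := hA
    obtain ⟨m, hm⟩ := Groth.L06.BddFibDeg.univBounded (A.ι ≫ p.left)
    obtain ⟨n, hn⟩ := hb i
    let O : U.left.Opens := ⟨r.left '' (A : Set R.left), r.left.isOpenMap _ A.isOpen⟩
    let A' : Over S := Over.mk (A.ι ≫ R.hom)
    let incl : A' ⟶ R := Over.homMk A.ι rfl
    let α : A' ⟶ Over.mk (O.ι ≫ U.hom) := Over.homMk (r.left.resLE O A (Set.subset_preimage_image _ _)) (by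
      show r.left.resLE O A _ ≫ O.ι ≫ U.hom = A.ι ≫ R.hom
      rw [Scheme.Hom.resLE_comp_ι_assoc, Over.w r])
    have hα : α ≫ Over.homMk O.ι rfl = incl ≫ r := Over.OverMorphism.ext (Scheme.Hom.resLE_comp_ι _ _)
    have hcomp : (yon S).map α ≫ (yon S).map (Over.homMk O.ι rfl : Over.mk (O.ι ≫ U.hom) ⟶ U) ≫ ψ =
        (yon S).map (incl ≫ p) ≫ φ i := by
      rw [← Category.assoc, ← Functor.map_comp, hα, Functor.map_comp, Functor.map_comp, Category.assoc,
        Category.assoc, sq.w]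
    have hs : Surjective α.left := ⟨by
      rintro ⟨_, a, ha, rfl⟩
      refine ⟨⟨a, ha⟩, O.ι.isOpenEmbedding.injective ?_⟩
      change (r.left.resLE O A _ ≫ O.ι) ⟨a, ha⟩ = _
      rw [Scheme.Hom.resLE_comp_ι]
      rfl⟩
    have hf : Flat α.left := by
      have : Etale (α.left ≫ O.ι) := by
        show Etale (r.left.resLE O A _ ≫ O.ι)
        rw [Scheme.Hom.resLE_comp_ι]; infer_instance
      have : Etale α.left := Etale.of_comp α.left O.ι
      infer_instance
    refine ⟨O, m * n, ⟨x, hxA, hx⟩, degFibresLE_of_comp hX α _ ?_⟩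
    rw [hcomp]
    exact degFibresLE_comp hX (incl ≫ p) (φ i) (degFibresLE_yon_map hm) hn
  choose O n hO hn using key
  obtain ⟨t, ht⟩ := isCompact_univ.elim_finite_subcover (fun v => (O v : Set U.left)) (fun v => (O v).isOpen)
    fun v _ => Set.mem_iUnion.2 ⟨v, hO v⟩
  refine ⟨_, degFibresLE_cover hX ψ (fun v : t => O v.1) (fun x => ?_) (fun v => n v.1) fun v => hn v.1⟩
  obtain ⟨v, hv, hxv⟩ := Set.mem_iUnion₂.1 (ht (Set.mem_univ x))
  exact ⟨⟨v, hv⟩, hxv⟩

/-- Boundedness of étale affine charts ascends along representable morphisms. -/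
theorem hasUnivBddFibres_of_representable (hX : IsAlgSpace G) (hY : IsAlgSpace F) (f : G ⟶ F)
    (hf : Representable f)
    (h : ∀ (V : Over S) (ψ : (yon S).obj V ⟶ F), IsAffine V.left → RepWith @Etale ψ → W4dec.HasUnivBddFibres ψ)
    (φ : (yon S).obj U ⟶ G) [IsAffine U.left] (hφ : RepWith @Etale φ) : W4dec.HasUnivBddFibres φ := by
  choose V b hV hb hmem using fun y : Points F => exists_affine_etale_nhd hY y
  refine hasUnivBddFibres_of_cover hX (fun y => hf.pullback (b y)) (fun y => hf.fst (b y)) (fun y => ?_)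
    (fun x => ?_) (fun y => ?_) φ hφ
  · exact repWith_of_isPullback (hf.isPullback (b y)).flip (hb y)
  · obtain ⟨v, hv⟩ := hmem (Points.map f x)
    obtain ⟨w, hw, -⟩ := exists_point_of_isPullback (hf.isPullback (b (Points.map f x))) (x := x) (u := v) hv.symm
    exact ⟨_, w, hw⟩
  · obtain ⟨n, hn⟩ := h _ _ (hV y) (hb y)
    exact ⟨n, degFibresLE_of_isPullback (hf.isPullback (b y)).flip hn⟩

/-- Boundedness of étale affine charts is Zariski local. -/
theorem hasUnivBddFibres_of_zarCover (hX : IsAlgSpace F) {ι : Type u} (Y : ι → Sp S) (hY : ∀ i, IsAlgSpace (Y i))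
    (j : ∀ i, Y i ⟶ F) (hj : IsZarCover Y j)
    (h : ∀ (i : ι) (V : Over S) (ψ : (yon S).obj V ⟶ Y i), IsAffine V.left → RepWith @Etale ψ → W4dec.HasUnivBddFibres ψ)
    (φ : (yon S).obj U ⟶ F) [IsAffine U.left] (hφ : RepWith @Etale φ) : W4dec.HasUnivBddFibres φ := by
  choose V a hV ha hmem using fun c : (Σ k, Points (Y k)) => exists_affine_etale_nhd (hY c.1) c.2
  refine hasUnivBddFibres_of_cover hX V (fun c => a c ≫ j c.1) (fun c => ?_) (fun x => ?_) (fun c => ?_) φ hφ
  · exact repWith_comp (ha c)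
      (repWith_mono (fun _ (_ : IsOpenImmersion _) => inferInstanceAs (Etale _)) (hj.1 c.1))
  · obtain ⟨k, z, rfl⟩ := hj.2 x
    obtain ⟨w, hw⟩ := hmem ⟨k, z⟩
    exact ⟨⟨k, z⟩, w, by rw [← Points.map_ofPt, hw]⟩
  · obtain ⟨n, hn⟩ := h _ _ _ (hV c) (ha c)
    have := mono_of_repWith_openImmersion (hj.1 c.1)
    exact ⟨n, degFibresLE_comp_mono hX _ _ hn⟩

end Groth.L09.UnivBdd
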