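import Groth.Agent.L09.UnivBdd.Basic
import Groth.Agent.L09.UnivBdd.Rank
import Groth.Agent.L23.RedInd
import Groth.Prelude.Def_AlgSpMor5

/-!
# Stratification by the degree of the fibres
-/

universe u

open CategoryTheory CategoryTheory.Limits AlgebraicGeometry Opposite AlgSp

set_option autoImplicit false
set_option linter.style.haveILetI false
set_option backward.isDefEq.respectTransparency.types false

namespace Groth.L09.UnivBdd

open Groth.L23

variable {S : Scheme.{u}} {F : Sp S} {W : Over S}

/-- The points over which the fibre of `w` has degree at most `m`. -/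
def degLE (m : ℕ) (w : (yon S).obj W ⟶ F) : Set (Points F) :=
  {x | ∀ q, Points.mk q = x → Deg m w q}

/-- The shifted filtration starting with the empty set. -/
def level (w : (yon S).obj W ⟶ F) : ℕ → Set (Points F)
  | 0 => ∅
  | m + 1 => degLE m w

theorem level_subset (w : (yon S).obj W ⟶ F) : ∀ m, level w m ⊆ level w (m + 1)
  | 0 => Set.empty_subset _
  | _ + 1 => fun _ hx q hq => (hx q hq).mono (Nat.le_succ _)

theorem degLE_univ {n : ℕ} {w : (yon S).obj W ⟶ F} (hb : W4dec.DegFibresLE n w) : degLE n w = Set.univ :=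
  Set.eq_univ_of_forall fun _ q _ => (degFibresLE_iff w).1 hb q

/-- In a chart the degree is the degree of the base change. -/
theorem mem_degLE_iff (hX : IsAlgSpace F) {n : ℕ} {w : (yon S).obj W ⟶ F} (hb : W4dec.DegFibresLE n w)
    {B R : Over S} {g : (yon S).obj B ⟶ F} {p : R ⟶ B} {r : (yon S).obj R ⟶ (yon S).obj W}
    (sq : IsPullback ((yon S).map p) r g w) (b : B.left) (m : ℕ) :
    Points.ofPt g b ∈ degLE m w ↔ fdeg p.left b ≤ m := by
  have key : Deg m w (FieldPt.ofPt g b) ↔ fdeg p.left b ≤ m := by
    rw [← finiteOfDegLE_iff (fibreDegLE_of hb sq)]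
    exact deg_iff_finiteOfDegLE sq (q := FieldPt.ofPt g b) (Over.homMk (B.left.fromSpecResidueField b) rfl)
      (FieldPt.toHom_ofPt g b).symm
  rw [← key]
  exact ⟨fun h => h _ rfl, fun h q hq => (deg_congr hX (hq : Points.mk q = Points.mk (FieldPt.ofPt g b))).2 h⟩

theorem mem_stratum_iff (hX : IsAlgSpace F) {n : ℕ} {w : (yon S).obj W ⟶ F} (hb : W4dec.DegFibresLE n w)
    {B R : Over S} {g : (yon S).obj B ⟶ F} {p : R ⟶ B} {r : (yon S).obj R ⟶ (yon S).obj W}
    (sq : IsPullback ((yon S).map p) r g w) (b : B.left) (m : ℕ) :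
    Points.ofPt g b ∈ level w (m + 1) \ level w m ↔ fdeg p.left b = m := by
  have h := mem_degLE_iff hX hb sq b
  cases m with
  | zero =>
    show Points.ofPt g b ∈ degLE 0 w \ ∅ ↔ _
    rw [Set.sdiff_empty, h 0]
    omega
  | succ k =>
    show Points.ofPt g b ∈ degLE (k + 1) w \ degLE k w ↔ _
    rw [Set.mem_sdiff, h (k + 1), h k]
    omega

theorem isClosed_level (hX : IsAlgSpace F) {n : ℕ} {w : (yon S).obj W ⟶ F} (hb : W4dec.DegFibresLE n w)
    (hfl : RepWith @Flat w) (hfp : RepWith @LocallyOfFinitePresentation w) (hsep : RepWith @IsSeparated w)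
    (hqf : RepWith @LocallyQuasiFinite w) : ∀ m, IsClosed (level w m)
  | 0 => isClosed_empty
  | m + 1 => by
    obtain ⟨B, g, hg, hgs⟩ := hX.atlas
    obtain ⟨R, p, r, sq⟩ := exists_isPullback_of_representable (hX.representable_from_yon g) w
    haveI : Flat p.left := repWith_prop hfl sq.flip
    haveI : LocallyOfFinitePresentation p.left := repWith_prop hfp sq.flip
    haveI : IsSeparated p.left := repWith_prop hsep sq.flip
    haveI : LocallyQuasiFinite p.left := repWith_prop hqf sq.flip
    rw [← (isOpenQuotientMap_ofPt hg hgs).isQuotientMap.isClosed_preimage]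
    have : Points.ofPt g ⁻¹' level w (m + 1) = {b | fdeg p.left b ≤ m} :=
      Set.ext fun b => mem_degLE_iff hX hb sq b m
    rw [this]
    exact isClosed_fdeg_le (fibreDegLE_of hb sq) m

/-- The base change is finite locally free of degree `m` exactly over the stratum. -/
theorem isFinLocFreeOfDegMor_iff (hX : IsAlgSpace F) {n : ℕ} {w : (yon S).obj W ⟶ F}
    (hb : W4dec.DegFibresLE n w) (hfl : RepWith @Flat w) (hfp : RepWith @LocallyOfFinitePresentation w)
    (hsep : RepWith @IsSeparated w) (hqf : RepWith @LocallyQuasiFinite w) (m : ℕ) {T P : Sp S} (g : T ⟶ F)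
    (fst : P ⟶ (yon S).obj W) (snd : P ⟶ T) (h : IsPullback fst snd w g) :
    IsFinLocFreeOfDegMor m snd ↔ Set.range (Points.map g) ⊆ level w (m + 1) \ level w m := by
  have hrep : Representable snd := representable_of_isPullback h hfl.1
  constructor
  · rintro hs _ ⟨x, rfl⟩
    obtain ⟨B, a, t, rfl⟩ := exists_eq_ofPt x
    have sq := (hrep.isPullback a).paste_horiz h
    rw [Points.map_ofPt]
    refine (mem_stratum_iff hX hb sq.flip t m).2 ?_
    haveI : Flat (hrep.snd a).left := repWith_prop hfl sq
    haveI : LocallyOfFinitePresentation (hrep.snd a).left := repWith_prop hfp sq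
    haveI : IsSeparated (hrep.snd a).left := repWith_prop hsep sq
    haveI : LocallyQuasiFinite (hrep.snd a).left := repWith_prop hqf sq
    exact (isFinLocFreeOfDeg_iff (fibreDegLE_of hb sq.flip) m).1 (repWith_prop hs (hrep.isPullback a)) t
  · intro hs
    refine repWith_of_snd (P := finLocFreeOfDeg m) hrep fun B a => ?_
    have sq := (hrep.isPullback a).paste_horiz h
    haveI : Flat (hrep.snd a).left := repWith_prop hfl sq
    haveI : LocallyOfFinitePresentation (hrep.snd a).left := repWith_prop hfp sq
    haveI : IsSeparated (hrep.snd a).left := repWith_prop hsep sq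
    haveI : LocallyQuasiFinite (hrep.snd a).left := repWith_prop hqf sq
    refine (isFinLocFreeOfDeg_iff (fibreDegLE_of hb sq.flip) m).2 fun t => ?_
    exact (mem_stratum_iff hX hb sq.flip t m).1 (hs ⟨Points.ofPt a t, Points.map_ofPt a g t⟩)

end Groth.L09.UnivBdd
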